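import Groth.Agent.CDivNormal.Basic
import Groth.Agent.NormSect.Basic
import Groth.Agent.InvGen.NormalDvd
import Groth.Prelude.Def_FGA

/-!
On a normal noetherian integral scheme a prime divisor which is locally the zero set of a function is the
support of an effective Cartier divisor.
-/

set_option autoImplicit false
set_option backward.isDefEq.respectTransparency false
set_option linter.style.haveILetI false
set_option maxHeartbeats 1000000

universe u

open CategoryTheory CategoryTheory.Limits AlgebraicGeometry TopologicalSpace Opposite IsLocalRing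

noncomputable section

namespace Groth.Agent.QFactDesc

variable {Y : Scheme.{u}} [IsIntegral Y] [IsLocallyNoetherian Y]

/-- Functions on an affine open of a normal scheme whose germ at a codimension one point `η` is divisible
by that of a function vanishing at most along `closure η`. -/
lemma dvd_of_germ (hY : Pi1.IsNormalScheme Y) {η : Y} (hη : Order.coheight η = 1) {V : Y.Opens}
    (hV : IsAffineOpen V) (hηV : η ∈ V) {a g : Γ(Y, V)} (ha : a ≠ 0)
    (haD : ∀ z ∈ V, z ∉ Y.basicOpen a → η ⤳ z)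
    (hg : Y.presheaf.germ V η hηV g ∈ Ideal.span {Y.presheaf.germ V η hηV a}) : a ∣ g := by
  haveI : Nonempty V := ⟨⟨η, hηV⟩⟩
  haveI : IsNoetherianRing Γ(Y, V) := IsLocallyNoetherian.component_noetherian ⟨V, hV⟩
  haveI : IsIntegrallyClosed Γ(Y, V) := NormSect.isIntegrallyClosed_sections V fun x _ => (hY x).2
  letI : Algebra Γ(Y, V) (Y.presheaf.stalk η) := TopCat.Presheaf.algebra_section_stalk Y.presheaf ⟨η, hηV⟩
  haveI := hV.isLocalization_stalk ⟨η, hηV⟩
  let P := (hV.primeIdealOf ⟨η, hηV⟩).asIdeal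
  have hPh : P.height = 1 := by
    have h := IsLocalization.AtPrime.ringKrullDim_eq_height P (Y.presheaf.stalk η)
    rw [ringKrullDim_stalk_eq_coheight, hη] at h
    exact_mod_cast h.symm
  refine InvGen.dvd_of_forall_height_one ha fun p hp hp1 => ?_
  by_cases hap : a ∈ p
  · -- only `P` contains `a` among the height one primes
    let z := hV.fromSpec ⟨p, hp⟩
    have hzV : z ∈ V := hV.range_fromSpec.le ⟨_, rfl⟩
    have hzb : z ∉ Y.basicOpen a := by
      intro h
      have h' : (⟨p, hp⟩ : PrimeSpectrum Γ(Y, V)) ∈ hV.fromSpec ⁻¹ᵁ Y.basicOpen a := h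
      rw [hV.fromSpec_preimage_basicOpen] at h'
      exact h' hap
    have hspec := haD z hzV hzb
    have hspec' : hV.fromSpec (hV.primeIdealOf ⟨η, hηV⟩) ⤳ z := by
      rw [hV.fromSpec_primeIdealOf]
      exact hspec
    have hle : P ≤ p :=
      (PrimeSpectrum.le_iff_specializes (hV.primeIdealOf ⟨η, hηV⟩) ⟨p, hp⟩).2
        (hV.fromSpec.isOpenEmbedding.isInducing.specializes_iff.1 hspec')
    have hPp : P = p := by
      rcases hle.lt_or_eq with hlt | he
      · exfalso
        haveI := hp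
        haveI : p.FiniteHeight := inferInstance
        have := Ideal.height_strict_mono_of_isPrime hlt
        rw [hPh, hp1] at this
        exact lt_irrefl _ this
      · exact he
    subst hPp
    obtain ⟨c, hc⟩ := Ideal.mem_span_singleton'.1 hg
    obtain ⟨⟨c', s⟩, hcs⟩ := IsLocalization.surj P.primeCompl c
    refine ⟨s, s.2, c', ?_⟩
    refine germ_injective_of_isIntegral Y η hηV ?_
    change algebraMap Γ(Y, V) (Y.presheaf.stalk η) (s * g) = algebraMap Γ(Y, V) _ (a * c')
    rw [map_mul, map_mul, ← hcs]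
    change c * algebraMap Γ(Y, V) (Y.presheaf.stalk η) a = algebraMap Γ(Y, V) _ g at hc
    rw [← hc]
    ring
  · exact ⟨a, hap, ⟨g, rfl⟩⟩

/-- Locally principal zero sets give a global effective Cartier divisor. -/
theorem exists_cartier_of_local [CompactSpace Y] (hY : Pi1.IsNormalScheme Y) {η : Y}
    (hη : ringKrullDim (Y.presheaf.stalk η) = 1)
    (h : ∀ y : Y, ∃ (V : Y.affineOpens) (f : Γ(Y, V)), y ∈ (V : Y.Opens) ∧ f ≠ 0 ∧
      ∀ z ∈ (V : Y.Opens), (z ∉ Y.basicOpen f ↔ η ⤳ z)) :
    ∃ J : Y.IdealSheafData, FGA.IsEffCartier J ∧ (J.support : Set Y) = closure {η} := by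
  classical
  have hco : Order.coheight η = 1 := by
    rw [ringKrullDim_stalk_eq_coheight] at hη
    exact_mod_cast hη
  haveI := CDivNormal.isDVR hY η hco
  choose V f hyV hf hfD using h
  obtain ⟨S, hS⟩ := isCompact_univ.elim_finite_subcover (fun y => ((V y : Y.Opens) : Set Y))
    (fun y => (V y : Y.Opens).isOpen) fun y _ => Set.mem_iUnion.2 ⟨y, hyV y⟩
  obtain ⟨ϖ, hϖ⟩ := IsDiscreteValuationRing.exists_irreducible (Y.presheaf.stalk η)
  have hord : ∀ y : Y, ∀ hh : η ∈ (V y : Y.Opens), ∃ m, 0 < m ∧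
      Ideal.span {Y.presheaf.germ (V y : Y.Opens) η hh (f y)} = maximalIdeal (Y.presheaf.stalk η) ^ m := by
    intro y hh
    have hne : Y.presheaf.germ (V y : Y.Opens) η hh (f y) ≠ 0 := fun h0 =>
      hf y (germ_injective_of_isIntegral Y η hh (h0.trans (map_zero _).symm))
    obtain ⟨m, u, hmu⟩ := IsDiscreteValuationRing.eq_unit_mul_pow_irreducible hne hϖ
    refine ⟨m, Nat.pos_of_ne_zero fun h0 => ?_, ?_⟩
    · rw [h0, pow_zero, mul_one] at hmu
      exact (hfD y η hh).2 specializes_rfl ((Y.mem_basicOpen (f y) η hh).2 (hmu ▸ u.isUnit))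
    · rw [hmu, Ideal.span_singleton_mul_left_unit u.isUnit, hϖ.maximalIdeal_eq, Ideal.span_singleton_pow]
  choose! m hm0 hm using hord
  let S' := S.filter fun y => η ∈ (V y : Y.Opens)
  let M := ∏ y ∈ S', m y
  have hM0 : 0 < M := Finset.prod_pos fun y hy => hm0 y (Finset.mem_filter.1 hy).2
  let R := Y.presheaf.stalk η
  let R' := CommRingCat.of (R ⧸ maximalIdeal R ^ M)
  let φ : Spec R' ⟶ Y := Spec.map (CommRingCat.ofHom (Ideal.Quotient.mk (maximalIdeal R ^ M))) ≫ Y.fromSpecStalk η
  haveI : Nonempty ↥(Spec R') := by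
    have : Nontrivial (R ⧸ maximalIdeal R ^ M) := Ideal.Quotient.nontrivial_iff.2 fun h =>
      (maximalIdeal.isMaximal R).ne_top (top_le_iff.1 (h.ge.trans (Ideal.pow_le_self hM0.ne')))
    exact inferInstanceAs (Nonempty (PrimeSpectrum (R ⧸ maximalIdeal R ^ M)))
  haveI : QuasiCompact φ := QuasiCompact.of_comp φ (terminal.from Y)
  have hrange : Set.range φ = {η} := by
    refine (Set.range_nonempty φ).subset_singleton_iff.1 ?_
    rintro _ ⟨p, rfl⟩
    rw [Scheme.Hom.comp_apply]
    have hmax : (Spec.map (CommRingCat.ofHom (Ideal.Quotient.mk (maximalIdeal R ^ M)))) p = closedPoint R := by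
      refine PrimeSpectrum.ext ((maximalIdeal.isMaximal R).eq_of_le (PrimeSpectrum.isPrime _).ne_top ?_).symm
      intro c hc
      refine Ideal.IsPrime.mem_of_pow_mem (PrimeSpectrum.isPrime _) M ?_
      change Ideal.Quotient.mk (maximalIdeal R ^ M) (c ^ M) ∈ p.asIdeal
      rw [Ideal.Quotient.eq_zero_iff_mem.2 (Ideal.pow_mem_pow hc M)]
      exact zero_mem _
    rw [hmax]
    exact Scheme.fromSpecStalk_closedPoint
  refine ⟨φ.ker, ?_, by rw [Scheme.Hom.support_ker, hrange]⟩
  intro y
  obtain ⟨i, hiS, hyi⟩ := Set.mem_iUnion₂.1 (hS (Set.mem_univ y))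
  by_cases hηi : η ∈ (V i : Y.Opens)
  · have hiS' : i ∈ S' := Finset.mem_filter.2 ⟨hiS, hηi⟩
    let a := f i ^ (∏ j ∈ S'.erase i, m j)
    have haM : Ideal.span {Y.presheaf.germ (V i : Y.Opens) η hηi a} = maximalIdeal R ^ M := by
      rw [map_pow, ← Ideal.span_singleton_pow, hm i hηi, ← pow_mul, Finset.mul_prod_erase S' m hiS']
    haveI : Nonempty (V i : Y.Opens) := ⟨⟨η, hηi⟩⟩
    have ha0 : a ≠ 0 := pow_ne_zero _ (hf i)
    refine ⟨V i, hyi, a, mem_nonZeroDivisors_of_ne_zero ha0, ?_⟩
    rw [Scheme.Hom.ker_apply]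
    have happ : ∀ g : Γ(Y, (V i : Y.Opens)),
        φ.app (V i : Y.Opens) g = 0 ↔ Y.presheaf.germ (V i : Y.Opens) η hηi g ∈ maximalIdeal R ^ M := by
      intro g
      have htop : ⊤ ≤ φ ⁻¹ᵁ (V i : Y.Opens) := fun p _ => by
        change φ p ∈ (V i : Y.Opens)
        rw [show φ p = η from hrange.le ⟨p, rfl⟩]
        exact hηi
      have key : φ.appLE (V i : Y.Opens) ⊤ htop ≫ (Scheme.ΓSpecIso R').hom =
          Y.presheaf.germ (V i : Y.Opens) η hηi ≫ CommRingCat.ofHom (Ideal.Quotient.mk (maximalIdeal R ^ M)) := by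
        rw [Scheme.Hom.comp_appLE, Scheme.fromSpecStalk_app hηi, Category.assoc, Category.assoc, Category.assoc,
          Scheme.Hom.map_appLE_assoc]
        congr 1
        refine (congrArg (fun t => (Scheme.ΓSpecIso R).inv ≫ t ≫ (Scheme.ΓSpecIso R').hom)
          (show (Spec.map (CommRingCat.ofHom (Ideal.Quotient.mk (maximalIdeal R ^ M)))).appLE ⊤ ⊤ _ = _ from
            (Scheme.Hom.app_eq_appLE _).symm)).trans ?_
        exact (congrArg ((Scheme.ΓSpecIso R).inv ≫ ·) (Scheme.ΓSpecIso_naturality _)).trans (Iso.inv_hom_id_assoc _ _)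
      have hsurj : Function.Bijective (((Spec R').presheaf.map (homOfLE htop).op) ≫ (Scheme.ΓSpecIso R').hom) := by
        haveI : IsIso ((Spec R').presheaf.map (homOfLE htop).op) := by
          rw [show homOfLE htop = eqToHom (top_le_iff.1 htop).symm from Subsingleton.elim _ _]
          infer_instance
        exact ConcreteCategory.bijective_of_isIso _
      rw [← map_eq_zero_iff _ hsurj.1]
      change (φ.app (V i : Y.Opens) ≫ (Spec R').presheaf.map (homOfLE htop).op ≫ (Scheme.ΓSpecIso R').hom) g = 0 ↔ _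
      rw [← Category.assoc]
      change ((φ.appLE (V i : Y.Opens) ⊤ htop ≫ (Scheme.ΓSpecIso R').hom) g) = 0 ↔ _
      rw [key]
      exact Ideal.Quotient.eq_zero_iff_mem
    refine le_antisymm (fun g hg => Ideal.mem_span_singleton.2 ?_) (Ideal.span_le.2 (Set.singleton_subset_iff.2 ?_))
    · refine dvd_of_germ hY hco (V i).2 hηi ha0 (fun z hz hzb => ?_) ?_
      · refine (hfD i z hz).1 fun h => hzb ?_
        rw [Y.mem_basicOpen _ z hz, map_pow]
        exact ((Y.mem_basicOpen _ z hz).1 h).pow _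
      · rw [haM]
        exact (happ g).1 hg
    · exact (happ a).2 (haM ▸ Ideal.subset_span rfl)
  · refine ⟨V i, hyi, 1, one_mem _, ?_⟩
    rw [Scheme.Hom.ker_apply, Ideal.span_singleton_one, Ideal.eq_top_iff_one]
    have hbot : φ ⁻¹ᵁ (V i : Y.Opens) = ⊥ := eq_bot_iff.2 fun p hp => hηi (by
      rw [← show φ p = η from hrange.le ⟨p, rfl⟩]; exact hp)
    haveI : Subsingleton Γ(Spec R', φ ⁻¹ᵁ (V i : Y.Opens)) := by
      rw [hbot]
      exact CommRingCat.subsingleton_of_isTerminal (Spec R').sheaf.isTerminalOfEmpty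
    exact Subsingleton.elim _ _

end Groth.Agent.QFactDesc
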