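import Groth.Agent.QFactDesc.Slice
import Groth.Agent.DimFormula.Scheme
import Groth.Agent.BlowUpLib.Cartier
import Groth.Agent.Unibranch.ComponentDim
import Groth.Prelude.Def_FGA

/-!
The preimage of a codimension one point under an equidimensional morphism supports an effective Cartier divisor
when all prime divisors upstairs do.
-/

set_option autoImplicit false
set_option backward.isDefEq.respectTransparency false
set_option linter.style.haveILetI false
set_option maxHeartbeats 1000000

universe u

open CategoryTheory CategoryTheory.Limits AlgebraicGeometry TopologicalSpace Opposite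
open Groth.Agent.Unibranch (ChainsLE HasChain IsChain')

noncomputable section

namespace Groth.Agent.QFactDesc

variable {X Y : Scheme.{u}}

/-- Finite unions of Cartier supports are Cartier supports. -/
lemma exists_cartier_biUnion {F : Set X} (hF : F.Finite)
    (h : ∀ z ∈ F, ∃ I : X.IdealSheafData, FGA.IsEffCartier I ∧ (I.support : Set X) = closure {z}) :
    ∃ I : X.IdealSheafData, FGA.IsEffCartier I ∧ (I.support : Set X) = ⋃ z ∈ F, closure {z} := by
  induction F, hF using Set.Finite.induction_on with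
  | empty => exact ⟨⊤, BlowUpLib.cartier_top, by simp⟩
  | @insert a F' ha hF' ih =>
    obtain ⟨J, hJ, hJs⟩ := ih fun z hz => h z (Set.mem_insert_of_mem _ hz)
    obtain ⟨I, hI, hIs⟩ := h a (Set.mem_insert _ _)
    refine ⟨I * J, BlowUpLib.cartier_mul hI hJ, ?_⟩
    rw [Scheme.IdealSheafData.support_mul, Closeds.coe_sup, hIs, hJs, Set.biUnion_insert]

variable [IsNoetherian X] [IsNoetherian Y] [IsIntegral X] [IsIntegral Y]

/-- A maximal point of the fibre over a codimension one point has codimension one. -/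
theorem stalk_dim_eq_one (π : X ⟶ Y) [LocallyOfFiniteType π] (hgen : π (genericPoint X) = genericPoint Y) (d : ℕ)
    (hle : ∀ y, ChainsLE π Set.univ y d) (hge : HasChain π Set.univ (genericPoint Y) d) {η : Y}
    (hη : ringKrullDim (Y.presheaf.stalk η) = 1) {ξ : X} (hξ : π ξ = η)
    (hmax : ∀ x' : X, π x' = π ξ → ξ ∈ closure {x'} → x' = ξ) :
    ringKrullDim (X.presheaf.stalk ξ) = 1 := by
  set ζ := genericPoint X
  have hζ : ζ ⤳ ξ := genericPoint_specializes ξ
  have hcl : closure ({ζ} : Set X) = Set.univ := (genericPoint_spec X)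
  have hne : ζ ≠ ξ := fun e => by
    have h1 : η = genericPoint Y := by rw [← hξ, ← e, hgen]
    rw [h1] at hη
    have h2 : Order.coheight (genericPoint Y) = 1 := by
      rw [ringKrullDim_stalk_eq_coheight] at hη
      exact_mod_cast hη
    rw [Order.coheight_eq_zero.2 fun z _ => genericPoint_specializes z] at h2
    exact zero_ne_one h2
  have hch : HasChain π (closure {ζ}) (π ζ) d := by rw [hcl, hgen]; exact hge
  have hfd : (d : WithBot ℕ∞) ≤ FlatMor.fibreDimAt π ξ := by
    rw [Unibranch.natCast_le_fibreDimAt_iff]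
    intro U hU
    exact (hch.of_specializes hζ hU).mono Set.inter_subset_left
  have hξch : HasChain π (closure {ξ}) (π ξ) d := Unibranch.hasChain_closure_of_maximal π ξ hmax hfd
  obtain ⟨a, haLE, ha⟩ := DimFormula.exists_genLE_hasGen hζ
  have hgl : DimFormula.GenLE (π ζ) (π ξ) 1 := by
    have h1 := (DimFormula.ringKrullDim_stalk_le_iff (π ξ) (k := 1)).1 (by rw [hξ, hη]; rfl)
    intro n c hc h0 hlast
    exact h1 n c hc hlast
  have hd1 := DimFormula.dimension_inequality π hζ ha hgl hξch
    ((hle _).mono (Set.subset_univ (closure {ζ})))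
  have hco : Order.coheight ξ ≠ 0 := by
    rw [Ne, Order.coheight_eq_zero]
    exact fun h => hne (specializes_iff_mem_closure.1 (h (b := ζ) hζ) |> fun h' =>
      hζ.antisymm (specializes_iff_mem_closure.2 h') |>.eq)
  have h1 : ringKrullDim (X.presheaf.stalk ξ) ≤ ((1 : ℕ) : WithBot ℕ∞) := by
    rw [DimFormula.ringKrullDim_stalk_le_iff]
    intro n c hc hlast
    exact (haLE n c hc (genericPoint_specializes _) hlast).trans (by omega)
  rw [ringKrullDim_stalk_eq_coheight] at h1 ⊢
  have h3 : Order.coheight ξ ≤ 1 := by exact_mod_cast h1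
  exact_mod_cast h3.antisymm (Order.one_le_iff_ne_zero.2 hco)

/-- A divisor upstairs containing the fibre over a codimension one point and lying over its closure. -/
theorem exists_divisor_of_fibre (π : X ⟶ Y) [LocallyOfFiniteType π] (hgen : π (genericPoint X) = genericPoint Y)
    (d : ℕ) (hle : ∀ y, ChainsLE π Set.univ y d) (hge : HasChain π Set.univ (genericPoint Y) d)
    (hX : ∀ ξ : X, ringKrullDim (X.presheaf.stalk ξ) = 1 →
      ∃ I : X.IdealSheafData, FGA.IsEffCartier I ∧ (I.support : Set X) = closure {ξ}) {η : Y}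
    (hη : ringKrullDim (Y.presheaf.stalk η) = 1) :
    ∃ I : X.IdealSheafData, FGA.IsEffCartier I ∧ (∀ x, x ∈ (I.support : Set X) → η ⤳ π x) ∧
      ∀ x, π x = η → x ∈ (I.support : Set X) := by
  obtain ⟨F₀, hF₀, hFη, hcov⟩ := exists_maxPts π isClosed_univ η
  let F : Set X := {z ∈ F₀ | ∀ z' ∈ F₀, z' ⤳ z → z' = z}
  have hmax : ∀ z ∈ F, ∀ x' : X, π x' = π z → z ∈ closure {x'} → x' = z := by
    intro z hz x' hx' hzx
    obtain ⟨z', hz', hspec⟩ := hcov x' trivial (hx'.trans (hFη z hz.1).2)
    have h := hz.2 z' hz' (hspec.trans (specializes_iff_mem_closure.2 hzx))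
    exact ((specializes_iff_mem_closure.2 hzx).antisymm (h ▸ hspec)).eq
  obtain ⟨I, hI, hIs⟩ := exists_cartier_biUnion (hF₀.subset fun z hz => hz.1) (F := F) fun z hz =>
    hX z (stalk_dim_eq_one π hgen d hle hge hη (hFη z hz.1).2 (hmax z hz))
  refine ⟨I, hI, fun x hx => ?_, fun x hx => ?_⟩
  · rw [hIs, Set.mem_iUnion₂] at hx
    obtain ⟨z, hz, hzx⟩ := hx
    have := (specializes_iff_mem_closure.2 hzx).map π.continuous
    rwa [(hFη z hz.1).2] at this
  · rw [hIs, Set.mem_iUnion₂]
    obtain ⟨z₀, hz₀, hspec⟩ := hcov x trivial hx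
    -- descend to a maximal element of the finite set
    haveI : Finite F₀ := hF₀
    obtain ⟨z, ⟨hz, hzs⟩, hzmax⟩ := (hF₀.inter_of_left {z | z ⤳ x}).exists_maximal (α := X) ⟨z₀, hz₀, hspec⟩
    exact ⟨z, ⟨hz, fun z' hz' hz'z => (Specializes.antisymm hz'z
      (hzmax ⟨hz', hz'z.trans hzs⟩ hz'z)).eq⟩, specializes_iff_mem_closure.1 hzs⟩

end Groth.Agent.QFactDesc
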