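import Groth.Agent.Nakai.SectionDim
import Groth.Agent.CycDim.RelDim
import Groth.Agent.TMul.AmpleBasis
import Groth.Agent.TMul.Pullback
import Groth.Agent.TMul.RelAmple
import Groth.Agent.Devissage.Core

/-!
Slicing a projective morphism by sections of an ample module: a closed subvariety which is finite over
a given point and meets a given fibre.
-/

set_option autoImplicit false
set_option backward.isDefEq.respectTransparency false
set_option linter.style.haveILetI false
set_option maxHeartbeats 1000000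

universe u

open CategoryTheory CategoryTheory.Limits AlgebraicGeometry TopologicalSpace Topology
open Groth.Agent.Unibranch (ChainsLE HasChain IsChain')

noncomputable section

namespace Groth.Agent.QFactDesc

variable {X Y : Scheme.{u}}

/-- A closed subset of a noetherian scheme meets a fibre in a set with finitely many maximal points, and
every point is a specialisation of one of them. -/
lemma exists_maxPts [IsNoetherian X] (π : X ⟶ Y) {S : Set X} (hS : IsClosed S) (y : Y) :
    ∃ F : Set X, F.Finite ∧ (∀ z ∈ F, z ∈ S ∧ π z = y) ∧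
      ∀ x ∈ S, π x = y → ∃ z ∈ F, z ⤳ x := by
  let α := ↥(S ∩ π ⁻¹' {y})
  haveI : QuasiSober α := Unibranch.quasiSober_inter π hS.isLocallyClosed y
  have hfin := NoetherianSpace.finite_irreducibleComponents (α := α)
  have hT : ∀ T ∈ irreducibleComponents α, ∃ w : α, IsGenericPoint w T := fun T hT =>
    QuasiSober.sober hT.1 (isClosed_of_mem_irreducibleComponents T hT)
  choose g hg using hT
  haveI := hfin.to_subtype
  refine ⟨Set.range fun T : irreducibleComponents α => (g T.1 T.2).1, Set.finite_range _, ?_, fun x hx hxy => ?_⟩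
  · rintro _ ⟨T, rfl⟩
    exact ⟨(g T.1 T.2).2.1, (g T.1 T.2).2.2⟩
  · let x' : α := ⟨x, hx, hxy⟩
    exact ⟨_, ⟨⟨_, irreducibleComponent_mem_irreducibleComponents x'⟩, rfl⟩,
      ((hg _ (irreducibleComponent_mem_irreducibleComponents x')).specializes mem_irreducibleComponent).map
        continuous_subtype_val⟩

/-- A closed subvariety of a fibre of dimension `e + 1` meets the complement of an affine section locus in
dimension at least `e`. -/
lemma exists_point_compl [IsAffine Y] [IsLocallyNoetherian Y] (π : X ⟶ Y) [IsProper π] {N : X.Modules}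
    (hN : PicF.IsInvertible N) (t : Coh.structureModule X ⟶ N) (hG : IsAffineOpen (CohB1.genLocus N t)) (ξ : X)
    {e : ℕ} (he : ((e + 1 : ℕ) : Cardinal.{u}) ≤ Dual3.resTrdeg π ξ) :
    ∃ w, ξ ⤳ w ∧ π w = π ξ ∧ w ∉ CohB1.genLocus N t ∧ (e : Cardinal.{u}) ≤ Dual3.resTrdeg π w := by
  by_cases hξG : ξ ∈ CohB1.genLocus N t
  swap
  · exact ⟨ξ, specializes_rfl, rfl, hξG, le_trans (by exact_mod_cast Nat.le_succ e) he⟩
  obtain ⟨m, hm, hle, hge⟩ := CycDim.exists_trdeg π ξ
  rw [hm] at he
  have hem : e + 1 ≤ m := by exact_mod_cast he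
  let η := π ξ
  let W := π.fiber η
  let v : W := π.asFiber ξ
  have hv : π.fiberι η v = ξ := π.fiberι_asFiber ξ
  let I := Scheme.IdealSheafData.vanishingIdeal (Devissage.Zc v)
  haveI : IsIntegral I.subscheme := Devissage.Zi_isIntegral v
  have hrI : Set.range I.subschemeι = closure {v} := by
    rw [Scheme.IdealSheafData.range_subschemeι, Scheme.IdealSheafData.coe_support_vanishingIdeal]
    rfl
  let φ : I.subscheme ⟶ X := I.subschemeι ≫ π.fiberι η
  letI : I.subscheme.Over (Spec (CommRingCat.of (Y.residueField η))) :=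
    ⟨I.subschemeι ≫ π.fiberToSpecResidueField η⟩
  haveI : IsProper (π.fiberToSpecResidueField η) :=
    inferInstanceAs (IsProper (pullback.snd π (Y.fromSpecResidueField η)))
  haveI hp : IsProper (I.subscheme ↘ Spec (CommRingCat.of (Y.residueField η))) :=
    inferInstanceAs (IsProper (I.subschemeι ≫ π.fiberToSpecResidueField η))
  haveI : IsAffineHom (Y.fromSpecResidueField η) := isAffineHom_of_isAffine _
  haveI : IsAffineHom (π.fiberι η) := MorphismProperty.pullback_fst π (Y.fromSpecResidueField η) inferInstance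
  have hφ : IsEmbedding φ := (π.fiberι η).isEmbedding.comp I.subschemeι.isEmbedding
  have hrφ : Set.range φ = closure {ξ} ∩ π ⁻¹' {η} := by
    rw [← hv, ← CycDim.range_closure_fiber π v]
    ext z
    constructor
    · rintro ⟨c, rfl⟩
      exact ⟨⟨I.subschemeι c, hrI.le ⟨c, rfl⟩⟩, rfl⟩
    · rintro ⟨⟨c, hc⟩, rfl⟩
      obtain ⟨c', rfl⟩ := hrI.ge hc
      exact ⟨c', rfl⟩
  have hdim : topologicalKrullDim I.subscheme = (m : WithBot ℕ∞) :=
    le_antisymm ((Unibranch.topologicalKrullDim_le_iff π hφ hrφ).2 hle)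
      ((Unibranch.natCast_le_topologicalKrullDim_iff π hφ hrφ).2 hge)
  let N' := (Scheme.Modules.pullback φ).obj N
  have hN' : PicF.IsInvertible N' := PicLoc.isInvertible_pullback φ hN
  let s := (PicLoc.pullbackStructureIso φ).symm.hom ≫ (Scheme.Modules.pullback φ).map t
  have hs : CohB1.genLocus N' s = φ ⁻¹ᵁ CohB1.genLocus N t := TMul.genLocus_pullback φ hN t _
  obtain ⟨g0, hg0⟩ : ∃ g0, φ g0 = ξ := hrφ.ge ⟨subset_closure rfl, rfl⟩
  have hg0s : g0 ∈ CohB1.genLocus N' s := hs.ge (show φ g0 ∈ CohB1.genLocus N t by rwa [hg0])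
  have hs0 : s ≠ 0 := fun h0 => by
    haveI : Nonempty I.subscheme := ⟨g0⟩
    obtain ⟨O, hgO, hO⟩ := (TMul.mem_genLocus_iff s).1 hg0s
    haveI : Nonempty O := ⟨⟨g0, hgO⟩⟩
    have hv0 : TMul.val s O = 0 := by rw [h0]; rfl
    exact one_ne_zero (α := Γ(I.subscheme, O)) ((hO O le_rfl).1 (by simp [hv0]))
  haveI : Mono s := CurveRR.mono_of_ne_zero TMul.isInvertible_structureModule hN' s hs0
  have hne : (CohB1.support (cokernel s)).Nonempty := by
    rw [Intersect.support_coker_section hN' s, Set.nonempty_compl, Ne, hs]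
    intro htop
    have htop' : φ ⁻¹ᵁ CohB1.genLocus N t = ⊤ := Opens.ext htop
    haveI : IsAffine ((⊤ : I.subscheme.Opens) : Scheme.{u}) := htop' ▸ hG.preimage φ
    haveI : IsAffine I.subscheme := IsAffine.of_isIso (Scheme.topIso I.subscheme).inv
    haveI : IsFinite (I.subscheme ↘ Spec (CommRingCat.of (Y.residueField η))) :=
      IsFinite.iff_isProper_and_isAffineHom.2 ⟨hp, inferInstance⟩
    haveI : IsLocallyArtinian I.subscheme :=
      .of_locallyQuasiFinite (I.subscheme ↘ Spec (CommRingCat.of (Y.residueField η)))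
    obtain ⟨c, hc, hcc⟩ := (Unibranch.natCast_le_topologicalKrullDim_iff π hφ hrφ).1
      (show ((1 : ℕ) : WithBot ℕ∞) ≤ topologicalKrullDim I.subscheme by
        rw [hdim]; exact_mod_cast (by omega : 1 ≤ m))
    obtain ⟨a, ha⟩ := hrφ.ge (hc 0)
    obtain ⟨b, hb⟩ := hrφ.ge (hc 1)
    have hab := hcc 0
    change c 0 ⤳ c 1 ∧ c 0 ≠ c 1 at hab
    rw [← ha, ← hb] at hab
    exact hab.2 (congrArg φ ((hφ.isInducing.specializes_iff.1 hab.1).eq))
  have hZdim : topologicalKrullDim ↥(CohB1.support (cokernel s)) = ((m - 1 : ℕ) : WithBot ℕ∞) :=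
    Nakai.dim_support_coker_eq (Y.residueField η) hN' s hs0 (e := m - 1)
      (by rw [hdim]; congr 2; omega) hne
  rw [Intersect.support_coker_section hN' s] at hZdim
  have hcl : IsClosed ((CohB1.genLocus N' s : Set I.subscheme)ᶜ) := (CohB1.genLocus N' s).isOpen.isClosed_compl
  haveI : QuasiSober ↥((CohB1.genLocus N' s : Set I.subscheme)ᶜ) := hcl.isClosedEmbedding_subtypeVal.quasiSober
  have hj : IsEmbedding (fun z : ↥((CohB1.genLocus N' s : Set I.subscheme)ᶜ) => φ z.1) :=
    hφ.comp IsEmbedding.subtypeVal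
  have hrj : Set.range (fun z : ↥((CohB1.genLocus N' s : Set I.subscheme)ᶜ) => φ z.1) =
      (closure {ξ} \ (CohB1.genLocus N t : Set X)) ∩ π ⁻¹' {η} := by
    ext z
    constructor
    · rintro ⟨c, rfl⟩
      obtain ⟨h1, h2⟩ := hrφ.le ⟨c.1, rfl⟩
      exact ⟨⟨h1, fun h3 => c.2 (hs.ge h3)⟩, h2⟩
    · rintro ⟨⟨h1, h3⟩, h2⟩
      obtain ⟨c, rfl⟩ := hrφ.ge ⟨h1, h2⟩
      exact ⟨⟨c, fun h4 => h3 (hs.le h4)⟩, rfl⟩
  obtain ⟨c, hc, hcc⟩ := (Unibranch.natCast_le_topologicalKrullDim_iff π hj hrj).1 hZdim.ge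
  refine ⟨c 0, specializes_iff_mem_closure.2 (hc 0).1.1, (hc 0).2, (hc 0).1.2, ?_⟩
  obtain ⟨m', hm', hle', -⟩ := CycDim.exists_trdeg π (c 0)
  rw [(hc 0).2] at hle'
  have hspec : ∀ i, c 0 ⤳ c i := fun i => by
    induction i using Fin.induction with
    | zero => exact specializes_rfl
    | succ i ih => exact ih.trans (hcc i).1
  have : m - 1 ≤ m' :=
    HasChain.le ⟨c, fun i => ⟨specializes_iff_mem_closure.1 (hspec i), (hc i).2⟩, hcc⟩ hle'
  rw [hm']
  exact_mod_cast (by omega : e ≤ m')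

/-- A closed subvariety through a fibre of dimension `d`, finite over a point with fibre of dimension `≤ d`. -/
theorem exists_slice [IsAffine Y] [IsLocallyNoetherian Y] [IsNoetherian X] (π : X ⟶ Y) [IsProper π] {L : X.Modules}
    (hL : CohB1.IsAmple L) (y : Y) :
    ∀ (e : ℕ) (ξ : X), ChainsLE π (closure {ξ}) y e → (e : Cardinal.{u}) ≤ Dual3.resTrdeg π ξ →
      ∃ w, ξ ⤳ w ∧ π w = π ξ ∧ ChainsLE π (closure {w}) y 0 := by
  intro e
  induction e with
  | zero => exact fun ξ h _ => ⟨ξ, specializes_rfl, rfl, h⟩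
  | succ e ih =>
    intro ξ hle he
    obtain ⟨F, hF, hFS, hFmax⟩ := exists_maxPts π (S := closure {ξ}) isClosed_closure y
    obtain ⟨n, t, hFt, -, ht⟩ := TMul.exists_finite_le hL hF (U := ⊤) (Set.subset_univ _)
    obtain ⟨w, hξw, hwy, hwG, hwe⟩ :=
      exists_point_compl π (TMul.isInvertible_tensorPow hL.1 _) t ht ξ he
    have hsub : closure {w} ⊆ closure {ξ} :=
      closure_minimal (Set.singleton_subset_iff.2 (specializes_iff_mem_closure.1 hξw)) isClosed_closure
    have hle' : ChainsLE π (closure {w}) y e := by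
      intro l c hc hcc
      obtain ⟨z, hzF, hz⟩ := hFmax (c 0) (hsub (hc 0).1) (hc 0).2
      have hne : z ≠ c 0 := fun h => hwG
        ((specializes_iff_mem_closure.2 (hc 0).1).mem_open (CohB1.genLocus _ t).isOpen (h ▸ hFt hzF))
      have := hle (l + 1) (Fin.cons z c) (fun i => ?_) (fun i => ?_)
      · omega
      · refine Fin.cases ?_ (fun j => ?_) i
        · exact hFS z hzF
        · exact ⟨hsub (hc j).1, (hc j).2⟩
      · refine Fin.cases ?_ (fun j => ?_) i
        · exact ⟨hz, by simpa using hne⟩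
        · simpa [← Fin.succ_castSucc] using hcc j
    obtain ⟨w', hww', hw'y, hw'⟩ := ih w hle' hwe
    exact ⟨w', hξw.trans hww', hw'y.trans hwy, hw'⟩

end Groth.Agent.QFactDesc
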