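import Groth.Agent.QFactDesc.Ring
import Groth.Agent.QFactDesc.Slice
import Groth.Agent.Multisec.Main
import Groth.Agent.CycDim.PushSheaf
import Groth.Agent.FpqcDescent.IdealGlue
import Groth.Agent.NormSect.Basic
import Groth.Agent.SymAlg.ProjHProj
import Groth.Agent.ProjMor.Segre
import Groth.Prelude.Def_FGA

/-!
A prime divisor downstairs is locally cut out by one function when its preimage supports a Cartier divisor.
-/

set_option autoImplicit false
set_option backward.isDefEq.respectTransparency false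
set_option linter.style.haveILetI false
set_option maxHeartbeats 1000000

universe u

open CategoryTheory CategoryTheory.Limits AlgebraicGeometry TopologicalSpace Opposite
open Groth.Agent.Unibranch (ChainsLE HasChain IsChain')

noncomputable section

namespace Groth.Agent.QFactDesc

variable {X Y Z : Scheme.{u}}

/-- A locally principal ideal sheaf is locally principal on an affine open after pulling back. -/
lemma exists_local_generator (I : X.IdealSheafData) (hI : FGA.IsEffCartier I) (ι : Z ⟶ X) {O : Z.Opens}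
    (hO : IsAffineOpen O) (q : PrimeSpectrum Γ(Z, O)) :
    ∃ b ∈ (I.comap ι).ideal ⟨O, hO⟩, ∀ x ∈ (I.comap ι).ideal ⟨O, hO⟩, ∃ s ∉ q.asIdeal, s * x ∈ Ideal.span {b} := by
  let z := hO.fromSpec q
  have hzO : z ∈ O := hO.range_fromSpec.le ⟨q, rfl⟩
  obtain ⟨U, hzU, a, -, ha⟩ := hI (ι z)
  obtain ⟨r, hr, hzr⟩ := hO.exists_basicOpen_le (V := O ⊓ ι ⁻¹ᵁ (U : X.Opens)) ⟨z, hzO, hzU⟩ hzO
  have hrq : r ∉ q.asIdeal := by
    have h' : q ∈ hO.fromSpec ⁻¹ᵁ Z.basicOpen r := hzr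
    rw [hO.fromSpec_preimage_basicOpen] at h'
    exact h'
  let D : Z.affineOpens := ⟨Z.basicOpen r, hO.basicOpen r⟩
  have hD : D.1 ≤ O := Z.basicOpen_le r
  let res : Γ(Z, O) →+* Γ(Z, D.1) := (Z.presheaf.map (homOfLE hD).op).hom
  letI : Algebra Γ(Z, O) Γ(Z, D.1) := res.toAlgebra
  haveI : IsLocalization.Away r Γ(Z, D.1) := hO.isLocalization_basicOpen r
  have h1 : (I.comap ι).ideal D = Ideal.span {(ι.appLE U D.1 (hr.trans inf_le_right)).hom a} := by
    rw [FpqcDescent.ideal_comap_appLE I ι U D (hr.trans inf_le_right), ha, Ideal.map_span, Set.image_singleton]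
  have h2 : ((I.comap ι).ideal ⟨O, hO⟩).map (algebraMap Γ(Z, O) Γ(Z, D.1)) = (I.comap ι).ideal D :=
    (I.comap ι).map_ideal (U := D) (V := ⟨O, hO⟩) hD
  let a' := (ι.appLE U D.1 (hr.trans inf_le_right)).hom a
  obtain ⟨⟨b0, t⟩, hb0⟩ := IsLocalization.surj (Submonoid.powers r) a'
  obtain ⟨m, hm, hmb⟩ := (IsLocalization.algebraMap_mem_map_algebraMap_iff (Submonoid.powers r) Γ(Z, D.1) _ b0).1
    (by rw [h2, h1, ← hb0]; exact Ideal.mul_mem_right _ _ (Ideal.subset_span rfl))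
  refine ⟨m * b0, hmb, fun x hx => ?_⟩
  have hx' : algebraMap Γ(Z, O) Γ(Z, D.1) x ∈
      (Ideal.span {m * b0}).map (algebraMap Γ(Z, O) Γ(Z, D.1)) := by
    have hx1 : algebraMap Γ(Z, O) Γ(Z, D.1) x ∈ (I.comap ι).ideal D := h2 ▸ Ideal.mem_map_of_mem _ hx
    rw [h1] at hx1
    refine Ideal.span_le.2 (Set.singleton_subset_iff.2 ?_) hx1
    rw [Ideal.map_span, Set.image_singleton, map_mul, ← hb0, SetLike.mem_coe, Ideal.mem_span_singleton]
    obtain ⟨u, hu⟩ := (IsLocalization.map_units Γ(Z, D.1) (⟨m, hm⟩ : Submonoid.powers r)).mul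
      (IsLocalization.map_units Γ(Z, D.1) t)
    refine Dvd.intro (↑u⁻¹ : Γ(Z, D.1)) ?_
    rw [show algebraMap Γ(Z, O) Γ(Z, D.1) m * (a' * algebraMap Γ(Z, O) Γ(Z, D.1) t) = a' * (u : Γ(Z, D.1)) by
      rw [hu]; ring, Units.mul_inv_cancel_right]
  obtain ⟨s, hs, hsx⟩ := (IsLocalization.algebraMap_mem_map_algebraMap_iff (Submonoid.powers r) _ _ x).1 hx'
  obtain ⟨N, rfl⟩ := hs
  exact ⟨r ^ N, fun h => hrq (q.isPrime.mem_of_pow_mem N h), hsx⟩

/-- Over a finite dominant integral multisection, the image of the divisor is locally cut out by one function. -/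
theorem exists_local_of_multisection [IsIntegral Y] [IsLocallyNoetherian Y] [IsIntegral Z] (hY : Pi1.IsNormalScheme Y)
    (h : Z ⟶ Y) [IsProper h] (hgen : h (genericPoint Z) = genericPoint Y) (I : X.IdealSheafData)
    (hI : FGA.IsEffCartier I) (ι : Z ⟶ X) {η : Y} (hsub : ∀ z, ι z ∈ (I.support : Set X) → η ⤳ h z)
    (hfull : ∀ z, h z = η → ι z ∈ (I.support : Set X)) (hgD : ¬ η ⤳ genericPoint Y) {V : Y.Opens} (hV : IsAffineOpen V) [IsFinite (h ∣_ V)] {y : Y} (hyV : y ∈ V) :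
    ∃ (W : Y.affineOpens) (f : Γ(Y, W)), y ∈ (W : Y.Opens) ∧ f ≠ 0 ∧
      ∀ z ∈ (W : Y.Opens), (z ∉ Y.basicOpen f ↔ η ⤳ z) := by
  obtain ⟨hO, hfin⟩ := CycSheafPush.finite_app_of_restrict h hV
  let O := h ⁻¹ᵁ V
  let A : Type u := Γ(Y, V)
  let B : Type u := Γ(Z, O)
  have hgV : genericPoint Y ∈ V := (genericPoint_specializes y).mem_open V.isOpen hyV
  have hgO : genericPoint Z ∈ O := by change h (genericPoint Z) ∈ V; rwa [hgen]
  haveI : Nonempty V := ⟨⟨_, hgV⟩⟩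
  haveI : Nonempty O := ⟨⟨_, hgO⟩⟩
  haveI : IsLocallyNoetherian Z := LocallyOfFiniteType.isLocallyNoetherian h
  haveI : IsNoetherianRing Γ(Y, V) := IsLocallyNoetherian.component_noetherian ⟨V, hV⟩
  haveI : IsNoetherianRing Γ(Z, O) := IsLocallyNoetherian.component_noetherian ⟨O, hO⟩
  haveI : IsIntegrallyClosed Γ(Y, V) := NormSect.isIntegrallyClosed_sections V fun x _ => (hY x).2
  letI : Algebra Γ(Y, V) Γ(Z, O) := (h.app V).hom.toAlgebra
  haveI : Module.Finite Γ(Y, V) Γ(Z, O) := hfin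
  have hpt : ∀ q : PrimeSpectrum Γ(Z, O),
      h (hO.fromSpec q) = hV.fromSpec (PrimeSpectrum.comap (algebraMap Γ(Y, V) Γ(Z, O)) q) := by
    intro q
    have := IsAffineOpen.SpecMap_appLE_fromSpec h hV hO le_rfl
    rw [← Scheme.Hom.app_eq_appLE] at this
    exact (congrArg (fun t : Spec _ ⟶ Y => t q) this).symm
  haveI : FaithfulSMul Γ(Y, V) Γ(Z, O) := by
    rw [faithfulSMul_iff_algebraMap_injective, RingHom.injective_iff_ker_eq_bot]
    have h1 := hpt ⟨⊥, Ideal.isPrime_bot⟩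
    rw [show hO.fromSpec ⟨⊥, Ideal.isPrime_bot⟩ = genericPoint Z from ?_] at h1
    · rw [hgen, show genericPoint Y = hV.fromSpec ⟨⊥, Ideal.isPrime_bot⟩ from ?_] at h1
      · have h2 := congrArg PrimeSpectrum.asIdeal (hV.fromSpec.isOpenEmbedding.injective h1)
        exact h2.symm
      · rw [← genericPoint_eq_of_isOpenImmersion hV.fromSpec, genericPoint_eq_bot_of_affine]
        rfl
    · rw [← genericPoint_eq_of_isOpenImmersion hO.fromSpec, genericPoint_eq_bot_of_affine]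
      rfl
  let J := (I.comap ι).ideal ⟨O, hO⟩
  have hsupp' : ∀ q : PrimeSpectrum Γ(Z, O), J ≤ q.asIdeal ↔ ι (hO.fromSpec q) ∈ (I.support : Set X) := by
    intro q
    have hz : hO.fromSpec q ∈ O := hO.range_fromSpec.le ⟨q, rfl⟩
    rw [show ι (hO.fromSpec q) ∈ (I.support : Set X) ↔ hO.fromSpec q ∈ (I.comap ι).support from ?_,
      Scheme.IdealSheafData.mem_support_iff_of_mem (U := ⟨O, hO⟩) hz, Scheme.mem_zeroLocus_iff]
    · refine ⟨fun hle f hf hmem => ?_, fun hall f hf => by_contra fun hfq => hall f hf ?_⟩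
      · have h' : q ∈ hO.fromSpec ⁻¹ᵁ Z.basicOpen f := hmem
        rw [hO.fromSpec_preimage_basicOpen] at h'
        exact h' (hle hf)
      · have h' : q ∈ hO.fromSpec ⁻¹ᵁ Z.basicOpen f := by rw [hO.fromSpec_preimage_basicOpen]; exact hfq
        exact h'
    · rw [← SetLike.mem_coe, Scheme.IdealSheafData.support_comap]
      rfl
  have hbot : h (hO.fromSpec ⟨⊥, Ideal.isPrime_bot⟩) = genericPoint Y := by
    rw [show hO.fromSpec ⟨⊥, Ideal.isPrime_bot⟩ = genericPoint Z from ?_, hgen]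
    rw [← genericPoint_eq_of_isOpenImmersion hO.fromSpec, genericPoint_eq_bot_of_affine]
    rfl
  have hJ0 : J ≠ ⊥ := fun h0 => hgD (hbot ▸ hsub _ ((hsupp' ⟨⊥, Ideal.isPrime_bot⟩).1 (by rw [h0])))
  let P := hV.primeIdealOf ⟨y, hyV⟩
  have hfinP : {q : Ideal Γ(Z, O) | q.IsPrime ∧ q.comap (algebraMap Γ(Y, V) Γ(Z, O)) = P.asIdeal}.Finite := by
    have hf : (h ⁻¹' {y}).Finite := by
      refine Set.Finite.subset ((h ∣_ V).finite_preimage_singleton (⟨y, hyV⟩ : V) |>.image O.ι) ?_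
      intro z hz
      have hzO : z ∈ O := by change h z ∈ V; rwa [show h z = y from hz]
      refine ⟨⟨z, hzO⟩, Subtype.ext ?_, rfl⟩
      rw [morphismRestrict_base]
      exact hz
    refine (hf.preimage (f := fun q : PrimeSpectrum Γ(Z, O) => hO.fromSpec q)
      (hO.fromSpec.isOpenEmbedding.injective.injOn)).image PrimeSpectrum.asIdeal |>.subset ?_
    rintro q ⟨hq, hqP⟩
    refine ⟨⟨q, hq⟩, ?_, rfl⟩
    change h (hO.fromSpec ⟨q, hq⟩) = y
    rw [hpt, show PrimeSpectrum.comap (algebraMap Γ(Y, V) Γ(Z, O)) ⟨q, hq⟩ = P from PrimeSpectrum.ext hqP]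
    exact hV.fromSpec_primeIdealOf ⟨y, hyV⟩
  obtain ⟨r, a, hrP, ha0, ha⟩ := exists_principal_nbhd J hJ0 P.asIdeal hfinP
    (fun q hq _ => exists_local_generator I hI ι hO ⟨q, hq⟩)
  have hyr : y ∈ Y.basicOpen r := by
    have h' : P ∈ hV.fromSpec ⁻¹ᵁ Y.basicOpen r := by rw [hV.fromSpec_preimage_basicOpen]; exact hrP
    have h'' : hV.fromSpec P ∈ Y.basicOpen r := h'
    rwa [show hV.fromSpec P = y from hV.fromSpec_primeIdealOf ⟨y, hyV⟩] at h''
  haveI : Nonempty (Y.basicOpen r) := ⟨⟨y, hyr⟩⟩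
  refine ⟨⟨Y.basicOpen r, hV.basicOpen r⟩, Y.presheaf.map (homOfLE (Y.basicOpen_le r)).op a, hyr, fun h0 => ha0 ?_, ?_⟩
  · exact (map_eq_zero_iff _ (AlgebraicGeometry.map_injective_of_isIntegral Y (homOfLE (Y.basicOpen_le r)))).1 h0
  intro z hz
  have hzV : z ∈ V := Y.basicOpen_le r hz
  obtain ⟨p, rfl⟩ := hV.range_fromSpec.ge hzV
  have hrp : r ∉ p.asIdeal := by
    have h' : p ∈ hV.fromSpec ⁻¹ᵁ Y.basicOpen r := hz
    rw [hV.fromSpec_preimage_basicOpen] at h'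
    exact h'
  have hbo : hV.fromSpec p ∉ Y.basicOpen (Y.presheaf.map (homOfLE (Y.basicOpen_le r)).op a) ↔ a ∈ p.asIdeal := by
    rw [Scheme.basicOpen_res]
    constructor
    · intro hn
      by_contra hap
      refine hn ⟨hz, ?_⟩
      have h' : p ∈ hV.fromSpec ⁻¹ᵁ Y.basicOpen a := by rw [hV.fromSpec_preimage_basicOpen]; exact hap
      exact h'
    · intro hap hmem
      have h' : p ∈ hV.fromSpec ⁻¹ᵁ Y.basicOpen a := hmem.2
      rw [hV.fromSpec_preimage_basicOpen] at h'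
      exact h' hap
  rw [hbo, ha p.asIdeal p.isPrime hrp]
  constructor
  · rintro ⟨q, hq, hqp, hJq⟩
    have h1 := hsub _ ((hsupp' ⟨q, hq⟩).1 hJq)
    rwa [hpt, show PrimeSpectrum.comap (algebraMap Γ(Y, V) Γ(Z, O)) ⟨q, hq⟩ = p from PrimeSpectrum.ext hqp] at h1
  · intro hzD
    haveI := p.isPrime
    have hηV : η ∈ V := hzD.mem_open V.isOpen hzV
    let P₁ := hV.primeIdealOf ⟨η, hηV⟩
    haveI := P₁.isPrime
    obtain ⟨q₁, -, hq₁, hqP₁⟩ := Ideal.exists_ideal_over_prime_of_isIntegral (S := Γ(Z, O)) P₁.asIdeal ⊥ (by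
      rw [Ideal.comap_bot_of_injective _ (FaithfulSMul.algebraMap_injective Γ(Y, V) Γ(Z, O))]
      exact bot_le)
    haveI := hq₁
    have hP₁p : P₁.asIdeal ≤ p.asIdeal := by
      change P₁ ≤ p
      rw [PrimeSpectrum.le_iff_specializes, ← hV.fromSpec.isOpenEmbedding.isInducing.specializes_iff]
      rw [show hV.fromSpec P₁ = η from hV.fromSpec_primeIdealOf ⟨η, hηV⟩]
      exact hzD
    obtain ⟨q, hq₁q, hq, hqp⟩ := Ideal.exists_ideal_over_prime_of_isIntegral (S := Γ(Z, O)) p.asIdeal q₁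
      (hqP₁.trans_le hP₁p)
    refine ⟨q, hq, hqp, ((hsupp' ⟨q₁, hq₁⟩).2 (hfull _ ?_)).trans hq₁q⟩
    rw [hpt, show PrimeSpectrum.comap (algebraMap Γ(Y, V) Γ(Z, O)) ⟨q₁, hq₁⟩ = P₁ from PrimeSpectrum.ext hqP₁]
    exact hV.fromSpec_primeIdealOf ⟨η, hηV⟩

/-- Chains of points in a fibre seen in a larger scheme. -/
lemma chainsLE_map {W : Scheme.{u}} (j : W ⟶ X) (hj : Topology.IsEmbedding j) (π : X ⟶ Y) {S : Set W} {T : Set X}
    (hST : ∀ w ∈ S, j w ∈ T) {y : Y} {e : ℕ} (h : ChainsLE π T y e) : ChainsLE (j ≫ π) S y e := by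
  intro l c hc hcc
  refine h l (fun i => j (c i)) (fun i => ⟨hST _ (hc i).1, (Scheme.Hom.comp_apply _ _ _).symm.trans (hc i).2⟩)
    fun i => ⟨(hcc i).1.map j.continuous, fun e' => (hcc i).2 (hj.injective e')⟩

/-- The finite multisection through a fibre. -/
theorem exists_multisection_nhd [IsNoetherian X] [IsNoetherian Y] [IsIntegral Y] [Y.IsSeparated] {π : X ⟶ Y}
    (hπ : RelProj.IsLocallyProjective π) [IsProper π] (d : ℕ)
    (hd : ∀ y : Y, topologicalKrullDim (↥(π.fiber y) : Type u) = d) (y : Y) :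
    ∃ (w : X) (V : Y.Opens), π w = genericPoint Y ∧ y ∈ V ∧ IsAffineOpen V ∧
      IsFinite (((Scheme.IdealSheafData.vanishingIdeal (Devissage.Zc w)).subschemeι ≫ π) ∣_ V) := by
  obtain ⟨U, hyU, hU⟩ := hπ y
  obtain ⟨V₀, hV₀, hyV₀, hV₀U⟩ := exists_isAffineOpen_mem_and_subset (U := U) hyU
  haveI : IsAffine (V₀ : Scheme.{u}) := hV₀
  obtain ⟨n, i, hi, hif⟩ := SymAlg.isHProjective_of_affine (SymAlg.isProjective_restrict_of_le π (W := V₀) hV₀U hU)
  haveI := hi
  have hamp := TMul.isAmple_pullback_of_isAffineHom i (ProjMor.isAmple_twistOver n (V₀ : Scheme.{u}))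
  let π₀ := π ∣_ V₀
  let X₀ : Scheme.{u} := (π ⁻¹ᵁ V₀ : X.Opens)
  let j : X₀ ⟶ X := (π ⁻¹ᵁ V₀).ι
  have hjπ : ∀ z, (π₀ z).1 = π (j z) := fun z => by simp [π₀, j, morphismRestrict_base]; rfl
  haveI : IsLocallyNoetherian (V₀ : Scheme.{u}) := LocallyOfFiniteType.isLocallyNoetherian V₀.ι
  haveI : IsProper π₀ := inferInstanceAs (IsProper (π ∣_ V₀))
  haveI : IsLocallyNoetherian X₀ := LocallyOfFiniteType.isLocallyNoetherian π₀
  haveI : CompactSpace X₀ := QuasiCompact.compactSpace_of_compactSpace π₀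
  haveI : IsNoetherian X₀ := AlgebraicGeometry.IsNoetherian.mk
  have hη : genericPoint Y ∈ V₀ := (genericPoint_specializes y).mem_open V₀.isOpen hyV₀
  let y₀ : V₀ := ⟨y, hyV₀⟩
  let η₀ : V₀ := ⟨genericPoint Y, hη⟩
  have hcl : ∀ z : Y, ChainsLE π Set.univ z d := fun z =>
    (Unibranch.topologicalKrullDim_le_iff π (π.fiberι z).isEmbedding
      (by rw [Set.univ_inter]; exact Scheme.Hom.range_fiberι π z)).1 (hd z).le
  have hle0 : ∀ S : Set X₀, ChainsLE π₀ S y₀ d := fun S l c hc hcc =>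
    hcl y l (fun t => j (c t)) (fun t => ⟨trivial, by rw [← hjπ, (hc t).2]⟩)
      fun t => ⟨(hcc t).1.map j.continuous, fun e => (hcc t).2 (j.isOpenEmbedding.injective e)⟩
  obtain ⟨c, hc, hcc⟩ := (Unibranch.natCast_le_topologicalKrullDim_iff π (π.fiberι (genericPoint Y)).isEmbedding
    (by rw [Set.univ_inter]; exact Scheme.Hom.range_fiberι π (genericPoint Y))).1 (hd (genericPoint Y)).ge
  let c₀ : Fin (d + 1) → X₀ := fun t => ⟨c t, by change π (c t) ∈ V₀; rw [(hc t).2]; exact hη⟩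
  have hc₀ : ∀ t, π₀ (c₀ t) = η₀ := fun t => Subtype.ext ((hjπ _).trans (hc t).2)
  have hcc₀ : IsChain' c₀ := fun t =>
    ⟨j.isOpenEmbedding.isInducing.specializes_iff.1 (hcc t).1, fun e => (hcc t).2 (congrArg (fun z => j z) e)⟩
  have hspec : ∀ t, c₀ 0 ⤳ c₀ t := fun t => by
    induction t using Fin.induction with
    | zero => exact specializes_rfl
    | succ t ih => exact ih.trans (hcc₀ t).1
  obtain ⟨m, hm, hmle, -⟩ := CycDim.exists_trdeg π₀ (c₀ 0)
  rw [hc₀ 0] at hmle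
  have hdm : d ≤ m := HasChain.le ⟨c₀, fun t => ⟨specializes_iff_mem_closure.1 (hspec t), hc₀ t⟩, hcc₀⟩ hmle
  obtain ⟨w, -, hw, hw0⟩ := exists_slice π₀ hamp y₀ d (c₀ 0) (hle0 _) (by rw [hm]; exact_mod_cast hdm)
  rw [hc₀ 0] at hw
  let Zs := Scheme.IdealSheafData.vanishingIdeal (Devissage.Zc (j w))
  let h := Zs.subschemeι ≫ π
  have hrs : Set.range Zs.subschemeι = closure {j w} := by
    rw [Scheme.IdealSheafData.range_subschemeι, Scheme.IdealSheafData.coe_support_vanishingIdeal]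
    rfl
  -- no chains in the fibre over `y`
  have hh : ChainsLE π (closure {j w}) y 0 := by
    intro l e he hee
    have hemem : ∀ t, e t ∈ π ⁻¹ᵁ V₀ := fun t => by change π (e t) ∈ V₀; rw [(he t).2]; exact hyV₀
    refine hw0 l (fun t => (⟨e t, hemem t⟩ : X₀)) (fun t => ⟨?_, Subtype.ext ((hjπ _).trans (he t).2)⟩)
      fun t => ⟨j.isOpenEmbedding.isInducing.specializes_iff.1 (hee t).1, fun e' => (hee t).2 (congrArg (fun z => j z) e')⟩
    exact specializes_iff_mem_closure.1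
      (j.isOpenEmbedding.isInducing.specializes_iff.1 (specializes_iff_mem_closure.2 (he t).1))
  have h0 : ∀ z, h z = y → Dual3.resTrdeg h z = 0 := by
    intro z hz
    obtain ⟨e, he, -, hchain⟩ := CycDim.exists_trdeg h z
    rw [hz] at hchain
    have := hchain.le (chainsLE_map Zs.subschemeι Zs.subschemeι.isEmbedding π
      (fun t _ => hrs.le ⟨t, rfl⟩) hh)
    rw [he, show e = 0 by omega, Nat.cast_zero]
  let bad : Set Y := h '' (h.quasiFiniteLocus : Set Zs.subscheme)ᶜ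
  have hbad : IsClosed bad := h.isClosedMap _ h.quasiFiniteLocus.isOpen.isClosed_compl
  have hybad : y ∉ bad := fun ⟨z, hz, hzy⟩ => hz (Multisec.quasiFiniteAt_of_forall_resTrdeg h h0 hzy)
  obtain ⟨V, hV, hyV, hVb⟩ :=
    exists_isAffineOpen_mem_and_subset (U := ⟨badᶜ, hbad.isOpen_compl⟩) (x := y) hybad
  refine ⟨j w, V, (hjπ w).symm.trans (congrArg Subtype.val hw), hyV, hV, ?_⟩
  haveI : LocallyQuasiFinite (h ∣_ V) := by
    rw [locallyQuasiFinite_iff_finite_preimage_singleton]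
    intro v
    refine Set.Finite.of_finite_image (f := (h ⁻¹ᵁ V).ι) ?_ ((h ⁻¹ᵁ V).ι.isOpenEmbedding.injective.injOn)
    refine (Multisec.finite_preimage_of_forall_quasiFiniteAt h (y := v.1) fun z hz =>
      by_contra fun hn => hVb v.2 ⟨z, hn, hz⟩).subset ?_
    rintro _ ⟨z, hz, rfl⟩
    have hzv : (h ∣_ V) z = v := hz
    rw [Set.mem_preimage, Set.mem_singleton_iff, ← hzv]
    simp [morphismRestrict_base]
  exact IsFinite.of_isProper_of_locallyQuasiFinite _

end Groth.Agent.QFactDesc
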