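import Mathlib

/-!
The constant coefficient of a minimal polynomial as a norm, and generators of locally principal ideals
near finitely many primes.
-/

set_option autoImplicit false

universe u

open Polynomial

namespace Groth.Agent.QFactDesc

/-- For a finite extension of an integrally closed domain, the constant coefficient `a` of the minimal
polynomial of `b ≠ 0` cuts out the image of the zero set of `b`. -/
theorem exists_norm {A B : Type u} [CommRing A] [IsDomain A] [IsIntegrallyClosed A] [CommRing B] [IsDomain B]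
    [Algebra A B] [Module.Finite A B] [FaithfulSMul A B] {b : B} (hb : b ≠ 0) :
    ∃ a : A, a ≠ 0 ∧ algebraMap A B a ∈ Ideal.span {b} ∧
      ∀ P : Ideal A, P.IsPrime → (a ∈ P ↔ ∃ q : Ideal B, q.IsPrime ∧ q.comap (algebraMap A B) = P ∧ b ∈ q) := by
  classical
  haveI : Module.IsTorsionFree A B := inferInstance
  have hint : IsIntegral A b := IsIntegral.of_finite A b
  let m := minpoly A b
  have h0 : algebraMap A B (m.coeff 0) ∈ Ideal.span {b} := by
    obtain ⟨r, hr⟩ : ∃ r, m = X * r + C (m.coeff 0) := ⟨m.divX, (X_mul_divX_add m).symm⟩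
    have := congrArg (aeval b) hr
    rw [minpoly.aeval, map_add, map_mul, aeval_X, aeval_C] at this
    rw [Ideal.mem_span_singleton, eq_neg_of_add_eq_zero_right this.symm]
    exact (dvd_mul_right _ _).neg_right
  have hne : m.coeff 0 ≠ 0 := fun h => by
    obtain ⟨r, hr⟩ : X ∣ m := X_dvd_iff.2 h
    rcases (minpoly.irreducible hint).isUnit_or_isUnit hr with hu | hu
    · exact not_isUnit_X hu
    · refine hb ?_
      have := minpoly.aeval A b
      rw [show minpoly A b = X * r from hr, map_mul, aeval_X] at this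
      exact (mul_eq_zero.1 this).resolve_right (hu.map _).ne_zero
  refine ⟨m.coeff 0, hne, h0, fun P hP => ⟨fun ha => ?_, ?_⟩⟩
  · let S := Algebra.adjoin A {b}
    let J : Ideal A[X] := P.map C ⊔ Ideal.span {X}
    let ev : A[X] →ₐ[A] S := aeval ⟨b, Algebra.subset_adjoin rfl⟩
    have hev : ∀ p : A[X], ((ev p : S) : B) = aeval b p := fun p => by
      simp only [ev]
      rw [← Subalgebra.coe_val, ← aeval_algHom_apply]
      rfl
    have hker : RingHom.ker ev ≤ J := fun p hp => by
      have : aeval b p = 0 := by rw [← hev, show ev p = 0 from hp]; rfl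
      obtain ⟨c, rfl⟩ := minpoly.isIntegrallyClosed_dvd hint this
      refine Ideal.mul_mem_right _ _ ?_
      change m ∈ J
      rw [← X_mul_divX_add m]
      exact add_mem (Ideal.mem_sup_right (Ideal.mul_mem_right _ _ (Ideal.subset_span rfl)))
        (Ideal.mem_sup_left (Ideal.mem_map_of_mem _ ha))
    -- a prime `Q` of `A[X]` over `P` containing `X` and the kernel
    let Q : Ideal A[X] := RingHom.ker ((Ideal.Quotient.mk P).comp (evalRingHom (0 : A)))
    haveI : Q.IsPrime := RingHom.ker_isPrime _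
    have hJQ : J ≤ Q := by
      refine sup_le (Ideal.map_le_iff_le_comap.2 fun x hx => ?_) (Ideal.span_le.2 ?_)
      · simpa [Q, RingHom.mem_ker, Ideal.Quotient.eq_zero_iff_mem] using hx
      · simp [Q, RingHom.mem_ker]
    have hsurj : Function.Surjective ev := fun z => by
      obtain ⟨z, hz⟩ := z
      rw [show S = _ from Algebra.adjoin_singleton_eq_range_aeval A b] at hz
      obtain ⟨p, hp⟩ := hz
      exact ⟨p, Subtype.ext ((hev p).trans hp)⟩
    haveI hQ' : (Q.map ev).IsPrime := Ideal.map_isPrime_of_surjective hsurj (hker.trans hJQ)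
    have hcomap : (Q.map ev).comap (algebraMap A S) = P := by
      rw [show (algebraMap A S) = (ev : A[X] →+* S).comp C from RingHom.ext fun c => (aeval_C _ c).symm,
        ← Ideal.comap_comap]
      rw [show Ideal.comap (ev : A[X] →+* S) (Ideal.map ev Q) = Q from
        (Ideal.comap_map_of_surjective (ev : A[X] →+* S) hsurj Q).trans
          (sup_eq_left.2 ((show Ideal.comap (ev : A[X] →+* S) ⊥ = RingHom.ker ev from rfl) ▸ hker.trans hJQ))]
      ext c
      simp [Q, RingHom.mem_ker, Ideal.Quotient.eq_zero_iff_mem]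
    haveI : Algebra.IsIntegral S B := Algebra.IsIntegral.tower_top A
    obtain ⟨q, -, hq, hqS⟩ := Ideal.exists_ideal_over_prime_of_isIntegral (S := B) (Q.map ev) ⊥ (by
      rw [Ideal.comap_bot_of_injective _ (show Function.Injective (algebraMap S B) from Subtype.val_injective)]
      exact bot_le)
    refine ⟨q, hq, ?_, ?_⟩
    · rw [IsScalarTower.algebraMap_eq A S B, ← Ideal.comap_comap, hqS, hcomap]
    · have : ev X ∈ Q.map ev := Ideal.mem_map_of_mem _ (hJQ (Ideal.mem_sup_right (Ideal.subset_span rfl)))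
      rw [← hqS, Ideal.mem_comap] at this
      have e : algebraMap S B (ev X) = b := (hev X).trans (aeval_X b)
      rwa [e] at this
  · rintro ⟨q, hq, rfl, hbq⟩
    exact Ideal.mem_comap.2 ((Ideal.span_le.2 (Set.singleton_subset_iff.2 hbq)) h0)

/-- An ideal principal at each of finitely many incomparable primes is generated by one element near all
of them. -/
theorem exists_generator {B : Type u} [CommRing B] (I : Ideal B) (F : Finset (Ideal B))
    (hF : ∀ q ∈ F, q.IsPrime) (hinc : ∀ q ∈ F, ∀ q' ∈ F, q ≤ q' → q = q')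
    (hI : ∀ q ∈ F, ∃ b ∈ I, ∃ s ∉ q, ∀ x ∈ I, s * x ∈ Ideal.span {b}) :
    ∃ b ∈ I, ∀ q ∈ F, ∃ s ∉ q, ∀ x ∈ I, s * x ∈ Ideal.span {b} := by
  classical
  choose! g hgI hg using hI
  have he : ∀ q ∈ F, ∃ c, c ∉ q ∧ ∀ q' ∈ F, q' ≠ q → c ∈ q' := fun q hq => by
    haveI := hF q hq
    have h1 : ¬ (∏ q' ∈ F.erase q, q') ≤ q := fun hle => by
      obtain ⟨q', hq', hle'⟩ := (Ideal.IsPrime.prod_le inferInstance).1 hle
      exact (Finset.mem_erase.1 hq').1 (hinc q' (Finset.mem_erase.1 hq').2 q hq hle')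
    obtain ⟨c, hc, hcq⟩ := SetLike.not_le_iff_exists.1 h1
    exact ⟨c, hcq, fun q' hq' hne =>
      Ideal.prod_le_inf.trans (Finset.inf_le (Finset.mem_erase.2 ⟨hne, hq'⟩)) hc⟩
  choose! c hc hc' using he
  refine ⟨∑ q ∈ F, c q * g q, Ideal.sum_mem _ fun q hq => I.mul_mem_left _ (hgI q hq), fun q hq => ?_⟩
  haveI := hF q hq
  obtain ⟨s, hs, hsI⟩ := hg q hq
  -- `s b = u g q` with `u ∉ q`
  have hterm : ∀ q' ∈ F.erase q, ∃ v ∈ q, s * (c q' * g q') = v * g q := fun q' hq' => by
    obtain ⟨hne, hqF⟩ := Finset.mem_erase.1 hq'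
    obtain ⟨v, hv⟩ := Ideal.mem_span_singleton'.1 (hsI (g q') (hgI q' hqF))
    exact ⟨c q' * v, q.mul_mem_right _ (hc' q' hqF q hq (Ne.symm hne)), by rw [mul_left_comm, ← hv, mul_assoc]⟩
  choose! v hv hv' using hterm
  let u := s * c q + ∑ q' ∈ F.erase q, v q'
  have hu : u ∉ q := fun h => (‹q.IsPrime›.mem_or_mem
    ((Submodule.add_mem_iff_left q (Ideal.sum_mem _ fun q' hq' => hv q' hq')).1 h)).elim hs (hc q hq)
  have hsb : s * (∑ q' ∈ F, c q' * g q') = u * g q := by
    rw [Finset.mul_sum, ← Finset.add_sum_erase _ _ hq, Finset.sum_congr rfl hv', add_mul, ← Finset.sum_mul]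
    ring
  refine ⟨s * u, fun h => (‹q.IsPrime›.mem_or_mem h).elim hs hu, fun x hx => ?_⟩
  obtain ⟨z, hz⟩ := Ideal.mem_span_singleton'.1 (hsI x hx)
  exact Ideal.mem_span_singleton'.2 ⟨s * z, by linear_combination z * hsb + u * hz⟩

/-- A finitely generated ideal inside another one at a prime is so with a single denominator. -/
theorem exists_denominator {B : Type u} [CommRing B] {I J : Ideal B} (hI : I.FG) (q : Ideal B) [q.IsPrime]
    (h : ∀ x ∈ I, ∃ s ∉ q, s * x ∈ J) : ∃ s ∉ q, ∀ x ∈ I, s * x ∈ J := by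
  classical
  obtain ⟨S, rfl⟩ := hI
  choose! s hs hsJ using fun x (hx : x ∈ S) => h x (Submodule.subset_span hx)
  refine ⟨∏ x ∈ S, s x, fun hm => ?_, fun x hx => ?_⟩
  · obtain ⟨y, hy, hyq⟩ := (‹q.IsPrime›.prod_mem_iff).1 hm
    exact hs y hy hyq
  · have hle : Submodule.span B (S : Set B) ≤ J.colon {∏ x ∈ S, s x} := Submodule.span_le.2 fun y hy => by
      rw [SetLike.mem_coe, Submodule.mem_colon_singleton, smul_eq_mul, mul_comm,
        ← Finset.prod_erase_mul S s hy, mul_assoc]
      exact J.mul_mem_left _ (hsJ y hy)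
    have := Submodule.mem_colon_singleton.1 (hle hx)
    rwa [smul_eq_mul, mul_comm] at this

/-- Below a locally principal ideal of a finite extension lies, near a prime, the zero set of one element. -/
theorem exists_principal_nbhd {A B : Type u} [CommRing A] [IsDomain A] [IsIntegrallyClosed A] [CommRing B]
    [IsDomain B] [Algebra A B] [Module.Finite A B] [FaithfulSMul A B] [IsNoetherianRing B] (I : Ideal B) (hI0 : I ≠ ⊥)
    (P : Ideal A) [P.IsPrime] (hfin : {q : Ideal B | q.IsPrime ∧ q.comap (algebraMap A B) = P}.Finite)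
    (hloc : ∀ q : Ideal B, q.IsPrime → q.comap (algebraMap A B) = P →
      ∃ b ∈ I, ∀ x ∈ I, ∃ s ∉ q, s * x ∈ Ideal.span {b}) :
    ∃ (r a : A), r ∉ P ∧ a ≠ 0 ∧ ∀ p : Ideal A, p.IsPrime → r ∉ p →
      (a ∈ p ↔ ∃ q : Ideal B, q.IsPrime ∧ q.comap (algebraMap A B) = p ∧ I ≤ q) := by
  classical
  have hmem : ∀ q, q ∈ hfin.toFinset ↔ q.IsPrime ∧ q.comap (algebraMap A B) = P := fun q => hfin.mem_toFinset
  obtain ⟨b, hbI, hb⟩ := exists_generator I hfin.toFinset (fun q hq => ((hmem q).1 hq).1)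
    (fun q hq q' hq' hle => by
      haveI := ((hmem q).1 hq).1
      haveI := ((hmem q').1 hq').1
      by_contra hne
      obtain ⟨x, hx', hx⟩ := SetLike.not_le_iff_exists.1 (fun h => hne (le_antisymm hle h))
      exact (Ideal.comap_lt_comap_of_integral_mem_sdiff hle ⟨hx', hx⟩ (IsIntegral.of_finite A x)).ne
        (((hmem q).1 hq).2.trans ((hmem q').1 hq').2.symm))
    (fun q hq => by
      haveI := ((hmem q).1 hq).1
      obtain ⟨b, hbI, hb⟩ := hloc q ((hmem q).1 hq).1 ((hmem q).1 hq).2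
      exact ⟨b, hbI, exists_denominator (IsNoetherian.noetherian I) q hb⟩)
  let K : Ideal B := (Ideal.span {b}).colon (I : Set B)
  have hK : ∀ s, s ∈ K ↔ ∀ x ∈ I, s * x ∈ Ideal.span {b} := fun s => by
    simp [K, Submodule.mem_colon]
  obtain ⟨r, hrK, hrP⟩ : ∃ r ∈ K.comap (algebraMap A B), r ∉ P := by
    by_contra! hle
    obtain ⟨q, hKq, hq, hqP⟩ := Ideal.exists_ideal_over_prime_of_isIntegral P K hle
    obtain ⟨s, hs, hsI⟩ := hb q ((hmem q).2 ⟨hq, hqP⟩)
    exact hs (hKq ((hK s).2 hsI))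
  have hb0 : b ≠ 0 := by
    intro h0
    obtain ⟨x, hx, hx0⟩ := Submodule.exists_mem_ne_zero_of_ne_bot hI0
    have := (hK _).1 hrK x hx
    rw [h0, Ideal.span_singleton_zero, Ideal.mem_bot, mul_eq_zero] at this
    rcases this with h1 | h1
    · exact hrP ((FaithfulSMul.algebraMap_injective A B (h1.trans (map_zero _).symm)) ▸ P.zero_mem)
    · exact hx0 h1
  obtain ⟨a, ha0, -, ha⟩ := exists_norm (A := A) hb0
  refine ⟨r, a, hrP, ha0, fun p hp hrp => ⟨fun hap => ?_, fun ⟨q, hq, hqp, hIq⟩ => (ha p hp).2 ⟨q, hq, hqp, hIq hbI⟩⟩⟩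
  obtain ⟨q, hq, hqp, hbq⟩ := (ha p hp).1 hap
  refine ⟨q, hq, hqp, fun x hx => (hq.mem_or_mem ((Ideal.span_le.2 (Set.singleton_subset_iff.2 hbq))
    ((hK _).1 hrK x hx))).resolve_left fun h => hrp (hqp ▸ h)⟩

end Groth.Agent.QFactDesc
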